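import Mathlib.RingTheory.WittVector.Frobenius
import Mathlib.RingTheory.Ideal.Operations
import Mathlib.RingTheory.Ideal.Maps
import Mathlib.LinearAlgebra.Basis.Basic

/-!
# Frobenius is nilpotent on Witt vectors of a nil ideal of bounded exponent
-/

set_option autoImplicit false
universe u v w z

namespace Groth.Agent.WittFrob

open WittVector

variable {p : ℕ} [hp : Fact p.Prime] {S : Type u} [CommRing S]

theorem aux_mem {I : Ideal S} (x : WittVector p S) (hx : ∀ n, x.coeff n ∈ I) (n : ℕ) :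
    MvPolynomial.aeval x.coeff (frobeniusPolyAux p n) ∈ I := by
  have h0 : MvPolynomial.constantCoeff (frobeniusPolyAux p n) = 0 := by
    have h := congrArg (fun y : WittVector p ℤ => y.coeff n) (map_zero (frobenius (p := p) (R := ℤ)))
    simp only [coeff_frobenius, zero_coeff, frobeniusPoly, map_add, map_pow, map_mul,
      MvPolynomial.aeval_X, MvPolynomial.aeval_C, map_natCast, eq_natCast, Int.cast_natCast,
      zero_pow hp.out.pos.ne', zero_add, mul_eq_zero, Nat.cast_eq_zero, hp.out.ne_zero, false_or] at h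
    have hc : (WittVector.coeff (0 : WittVector p ℤ)) = 0 := funext fun i => zero_coeff p ℤ i
    rw [hc] at h
    simpa [MvPolynomial.aeval_zero] using h
  rw [← Ideal.Quotient.eq_zero_iff_mem, MvPolynomial.aeval_def,
    MvPolynomial.eval₂_comp_left (Ideal.Quotient.mk I)]
  have : (Ideal.Quotient.mk I) ∘ x.coeff = 0 :=
    funext fun i => Ideal.Quotient.eq_zero_iff_mem.2 (hx i)
  rw [this, MvPolynomial.eval₂_zero_apply, h0, map_zero]

theorem coeff_frobenius_sub_mem {I : Ideal S} (x : WittVector p S) (hx : ∀ n, x.coeff n ∈ I) (n : ℕ) :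
    (frobenius x).coeff n - x.coeff n ^ p ∈ Ideal.span {(p : S)} * I := by
  rw [coeff_frobenius, frobeniusPoly]
  simp only [map_add, map_pow, map_mul, MvPolynomial.aeval_X, MvPolynomial.aeval_C, map_natCast,
    eq_natCast, Int.cast_natCast, add_sub_cancel_left]
  exact Ideal.mul_mem_mul (Ideal.mem_span_singleton_self _) (aux_mem x hx n)

theorem coeff_iterate {I : Ideal S} (x : WittVector p S) (hx : ∀ n, x.coeff n ∈ I) (j : ℕ) :
    (∀ n, ((frobenius (p := p))^[j] x).coeff n ∈ I) ∧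
      ∀ n, ((frobenius (p := p))^[j] x).coeff n - x.coeff n ^ p ^ j ∈ Ideal.span {(p : S)} * I := by
  induction j with
  | zero => simp [hx]
  | succ j ih =>
    rw [Function.iterate_succ_apply']
    refine ⟨fun n => ?_, fun n => ?_⟩
    · have h : (frobenius ((frobenius (p := p))^[j] x)).coeff n - ((frobenius (p := p))^[j] x).coeff n ^ p ∈ I :=
        Ideal.mul_le_right (coeff_frobenius_sub_mem (I := I) _ ih.1 n)
      have h2 := Ideal.pow_mem_of_mem I (ih.1 n) p hp.out.pos
      simpa using add_mem h h2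
    · rw [pow_succ, pow_mul]
      have h := coeff_frobenius_sub_mem _ ih.1 n
      have h2 : ((frobenius (p := p))^[j] x).coeff n ^ p - (x.coeff n ^ p ^ j) ^ p ∈
          Ideal.span {(p : S)} * I := Ideal.mem_of_dvd _ (sub_dvd_pow_sub_pow _ _ p) (ih.2 n)
      simpa using add_mem h h2

/-- one exponent of Frobenius kills the Witt vectors of a nil ideal of bounded exponent -/
theorem exists_iterate_frobenius_eq_zero (hpS : IsNilpotent (p : S)) (I : Ideal S) (N : ℕ)
    (hN : ∀ a ∈ I, a ^ N = 0) :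
    ∃ m : ℕ, ∀ x : WittVector p S, (∀ n, x.coeff n ∈ I) → (frobenius (p := p))^[m] x = 0 := by
  obtain ⟨e, he⟩ := hpS
  have hstep : ∀ j, ∀ x : WittVector p S, (∀ n, x.coeff n ∈ I) →
      ∀ n, ((frobenius (p := p))^[j + N] x).coeff n ∈ Ideal.span {(p : S)} ^ (j + 1) * I := by
    intro j
    induction j with
    | zero =>
      intro x hx n
      have h := (coeff_iterate x hx N).2 n
      have h2 : x.coeff n ^ p ^ N = 0 :=
        pow_eq_zero_of_le (Nat.lt_pow_self hp.out.one_lt).le (hN _ (hx n))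
      rw [h2, sub_zero] at h
      simpa using h
    | succ j ih =>
      intro x hx n
      rw [Nat.add_right_comm j 1 N, Function.iterate_succ_apply']
      set y := (frobenius (p := p))^[j + N] x
      have h1 := coeff_frobenius_sub_mem (I := Ideal.span {(p : S)} ^ (j + 1) * I) y (ih x hx) n
      have h2 : y.coeff n ^ p ∈ Ideal.span {(p : S)} * (Ideal.span {(p : S)} ^ (j + 1) * I) := by
        rw [← pow_sub_one_mul hp.out.pos.ne' (y.coeff n)]
        refine Ideal.mul_mem_mul (Ideal.pow_mem_of_mem _ ?_ _ (Nat.sub_pos_of_lt hp.out.one_lt)) (ih x hx n)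
        exact Ideal.pow_le_self (Nat.succ_ne_zero j) (Ideal.mul_le_left (ih x hx n))
      have h3 := add_mem h1 h2
      rw [sub_add_cancel, ← mul_assoc, ← pow_succ'] at h3
      exact h3
  refine ⟨e + N, fun x hx => WittVector.ext fun n => ?_⟩
  have h := hstep e x hx n
  rw [Ideal.span_singleton_pow, pow_succ, he, zero_mul, Ideal.span_singleton_eq_bot.2 rfl,
    Ideal.bot_mul, Ideal.mem_bot] at h
  rw [h, zero_coeff]

theorem mem_ker_map_iff {R : Type u} [CommRing R] (φ : S →+* R) (x : WittVector p S) :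
    x ∈ RingHom.ker (WittVector.map (p := p) φ) ↔ ∀ n, x.coeff n ∈ RingHom.ker φ := by
  simp [RingHom.mem_ker, WittVector.ext_iff, map_coeff, zero_coeff]

theorem frobenius_mem_ker {R : Type u} [CommRing R] (φ : S →+* R) {x : WittVector p S}
    (hx : x ∈ RingHom.ker (WittVector.map (p := p) φ)) :
    frobenius x ∈ RingHom.ker (WittVector.map (p := p) φ) := by
  rw [mem_ker_map_iff] at hx ⊢
  exact fun n => (coeff_iterate x hx 1).1 n

/-- the image of an ideal under an iterate of a ring endomorphism -/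
def ideal {W : Type u} [CommRing W] (σ : W →+* W) (J : Ideal W) : ℕ → Ideal W
  | 0 => J
  | n + 1 => (ideal σ J n).map σ

theorem ideal_le_span {W : Type u} [CommRing W] (σ : W →+* W) (J : Ideal W) (n : ℕ) :
    ideal σ J n ≤ Ideal.span (σ^[n] '' J) := by
  induction n with
  | zero => simpa [ideal] using Ideal.subset_span
  | succ n ih =>
    refine (Ideal.map_mono ih).trans ?_
    rw [Ideal.map_span, ← Set.image_comp, Function.iterate_succ']

section Fixed

variable {W : Type u} [CommRing W] {σ : W →+* W}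
  {P₁ : Type v} [AddCommGroup P₁] [Module W P₁] {P₂ : Type w} [AddCommGroup P₂] [Module W P₂]

theorem semilinear_mem_smul_top (F : P₂ →ₛₗ[σ] P₂) {I : Ideal W} {y : P₂}
    (hy : y ∈ I • (⊤ : Submodule W P₂)) : F y ∈ I.map σ • (⊤ : Submodule W P₂) := by
  refine Submodule.smul_induction_on hy (fun r hr m _ => ?_) fun a b ha hb => ?_
  · rw [LinearMap.map_smulₛₗ]
    exact Submodule.smul_mem_smul (Ideal.mem_map_of_mem σ hr) Submodule.mem_top
  · rw [map_add]; exact add_mem ha hb

theorem mem_smul_top_of_basis {ι : Type z} (b : Module.Basis ι W P₁) (β : P₁ →ₗ[W] P₂) {I : Ideal W}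
    (h : ∀ i, β (b i) ∈ I • (⊤ : Submodule W P₂)) (x : P₁) : β x ∈ I • (⊤ : Submodule W P₂) := by
  have hle : Submodule.span W (Set.range b) ≤ (I • (⊤ : Submodule W P₂)).comap β :=
    Submodule.span_le.2 (by rintro _ ⟨i, rfl⟩; exact h i)
  rw [b.span_eq] at hle
  exact hle Submodule.mem_top

variable {ι : Type z} (b : Module.Basis ι W P₁) (F₁ : P₁ →ₛₗ[σ] P₁) (F₂ : P₂ →ₛₗ[σ] P₂)
  (hF₁ : LinearIndependent W (fun i => F₁ (b i)) ∧ Submodule.span W (Set.range fun i => F₁ (b i)) = ⊤)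

/-- `α ↦ F₂ ∘ α ∘ F₁⁻¹` -/
noncomputable def transfer (α : P₁ →ₗ[W] P₂) : P₁ →ₗ[W] P₂ :=
  (Module.Basis.mk hF₁.1 hF₁.2.ge).constr ℕ fun i => F₂ (α (b i))

theorem transfer_apply (α : P₁ →ₗ[W] P₂) (i : ι) :
    transfer b F₁ F₂ hF₁ α (F₁ (b i)) = F₂ (α (b i)) := by
  have h := (Module.Basis.mk hF₁.1 hF₁.2.ge).constr_basis ℕ (fun i => F₂ (α (b i))) i
  rwa [Module.Basis.mk_apply] at h

theorem transfer_sub (α β : P₁ →ₗ[W] P₂) :
    transfer b F₁ F₂ hF₁ (α - β) = transfer b F₁ F₂ hF₁ α - transfer b F₁ F₂ hF₁ β :=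
  (Module.Basis.mk hF₁.1 hF₁.2.ge).ext fun i => by
    simp only [Module.Basis.mk_apply, LinearMap.sub_apply, transfer_apply, map_sub]

theorem transfer_eq_iff (α : P₁ →ₗ[W] P₂) :
    transfer b F₁ F₂ hF₁ α = α ↔ ∀ x, F₂ (α x) = α (F₁ x) := by
  constructor
  · intro h x
    have : F₂.comp α = α.comp F₁ := b.ext fun i => by
      show F₂ (α (b i)) = α (F₁ (b i))
      rw [← transfer_apply b F₁ F₂ hF₁, h]
    exact LinearMap.congr_fun this x
  · exact fun h => (Module.Basis.mk hF₁.1 hF₁.2.ge).ext fun i => by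
      rw [Module.Basis.mk_apply, transfer_apply, h]

theorem transfer_mem {I : Ideal W} {α : P₁ →ₗ[W] P₂} (hα : ∀ x, α x ∈ I • (⊤ : Submodule W P₂)) (x : P₁) :
    transfer b F₁ F₂ hF₁ α x ∈ I.map σ • (⊤ : Submodule W P₂) :=
  mem_smul_top_of_basis (Module.Basis.mk hF₁.1 hF₁.2.ge) _ (fun i => by
    rw [Module.Basis.mk_apply, transfer_apply]
    exact semilinear_mem_smul_top F₂ (hα _)) x

theorem iterate_transfer_mem {I : Ideal W} {α : P₁ →ₗ[W] P₂} (hα : ∀ x, α x ∈ I • (⊤ : Submodule W P₂))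
    (m : ℕ) : ∀ x, (transfer b F₁ F₂ hF₁)^[m] α x ∈ ideal σ I m • (⊤ : Submodule W P₂) := by
  induction m with
  | zero => exact hα
  | succ m ih => rw [Function.iterate_succ_apply']; exact transfer_mem b F₁ F₂ hF₁ ih

theorem existsUnique_fixed (J : Ideal W) (hJ : ∀ x ∈ J, σ x ∈ J) (m : ℕ) (hm : ∀ x ∈ J, σ^[m] x = 0)
    (α₀ : P₁ →ₗ[W] P₂) (hα₀ : ∀ x, F₂ (α₀ x) - α₀ (F₁ x) ∈ J • (⊤ : Submodule W P₂))
    (hF₁ : LinearIndependent W (fun i => F₁ (b i)) ∧ Submodule.span W (Set.range fun i => F₁ (b i)) = ⊤) :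
    ∃! α : P₁ →ₗ[W] P₂, (∀ x, α x - α₀ x ∈ J • (⊤ : Submodule W P₂)) ∧ ∀ x, F₂ (α x) = α (F₁ x) := by
  have hbot : ideal σ J m = ⊥ := le_bot_iff.1 ((ideal_le_span σ J m).trans (Ideal.span_le.2 (by
    rintro _ ⟨x, hx, rfl⟩; exact hm x hx)))
  let T := transfer b F₁ F₂ hF₁
  have hzero : ∀ β : P₁ →ₗ[W] P₂, (∀ x, β x ∈ J • (⊤ : Submodule W P₂)) → T^[m] β = 0 := by
    intro β hβ
    ext x
    have h := iterate_transfer_mem b F₁ F₂ hF₁ hβ m x
    rwa [hbot, Submodule.bot_smul, Submodule.mem_bot] at h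
  have hδ : ∀ x, (T α₀ - α₀) x ∈ J • (⊤ : Submodule W P₂) :=
    mem_smul_top_of_basis (Module.Basis.mk hF₁.1 hF₁.2.ge) _ fun i => by
      rw [Module.Basis.mk_apply, LinearMap.sub_apply, transfer_apply]
      exact hα₀ _
  have hle : J.map σ ≤ J := Ideal.map_le_iff_le_comap.2 hJ
  have hmem : ∀ k x, (T^[k] α₀ - α₀) x ∈ J • (⊤ : Submodule W P₂) := by
    intro k
    induction k with
    | zero => simp
    | succ k ih =>
      intro x
      have h1 := Submodule.smul_mono_left (N := (⊤ : Submodule W P₂)) hle (transfer_mem b F₁ F₂ hF₁ ih x)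
      have h2 := add_mem h1 (hδ x)
      rw [transfer_sub] at h2
      rw [Function.iterate_succ_apply']
      simpa [T] using h2
  have hfix : T (T^[m] α₀) = T^[m] α₀ := by
    have hsub : ∀ k α β, T^[k] (α - β) = T^[k] α - T^[k] β := by
      intro k
      induction k with
      | zero => simp
      | succ k ih => intro α β; simp only [Function.iterate_succ_apply', ih]; exact transfer_sub b F₁ F₂ hF₁ _ _
    have h := hzero _ hδ
    rw [hsub, ← Function.iterate_succ_apply, Function.iterate_succ_apply', sub_eq_zero] at h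
    exact h
  refine ⟨T^[m] α₀, ⟨hmem m, (transfer_eq_iff b F₁ F₂ hF₁ _).1 hfix⟩, ?_⟩
  rintro α ⟨hα, hαF⟩
  have hαfix : T α = α := (transfer_eq_iff b F₁ F₂ hF₁ _).2 hαF
  let β := α - T^[m] α₀
  have hβ : ∀ x, β x ∈ J • (⊤ : Submodule W P₂) := fun x => by
    have h := sub_mem (hα x) (hmem m x)
    simpa [β] using h
  have hβfix : T β = β := by rw [show β = α - T^[m] α₀ from rfl]; rw [show T (α - T^[m] α₀) = T α - T (T^[m] α₀) from transfer_sub b F₁ F₂ hF₁ _ _, hαfix, hfix]
  exact sub_eq_zero.1 ((Function.iterate_fixed hβfix m).symm.trans (hzero β hβ))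

end Fixed

end Groth.Agent.WittFrob
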